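import Cfsg.Agent.H773.Pw.Spor
import Cfsg.Agent.H513.AbTh

/-!
# `PW 7 70` for the Thompson group (helper468)

The Sylow 7-subgroups are elementary abelian of order 49 and all the elements of order 7 are conjugate: degrees `≥ 48`;
`|C(x)| = 1176` for `x` of order 7.
-/

set_option autoImplicit false

namespace Cfsg.Agent.H468.PW

open Subgroup Cfsg Cfsg.Agent.H514.DP

universe u

namespace ThP

open Cfsg.Agent.H513.AbTh Cfsg.Agent.H513.NilpTh

theorem card_cent {x : Spor.Th} (hx : orderOf x = 7) :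
    Nat.card ↥(centralizer ({x} : Set Spor.Th)) = 1176 := by
  have := finite
  obtain ⟨P, hP, hxP, hc⟩ := H49.ThSeven.Dat.exists_syl H49.ThSeven.dat hx
  have h1 : P ≤ centralizer ({x} : Set Spor.Th) := fun u hu => mem_centralizer_singleton_iff.2 (hc u hu x hxP)
  have h2 := card_dvd_of_le h1
  rw [hP] at h2
  rcases cent_seven hx with h | h
  · rw [h]
  · rw [h] at h2
    norm_num at h2

theorem minDeg : MinDeg Spor.Th 48 := by
  have := finite
  have hs := simple
  have hna : ¬ ∀ a b : Spor.Th, a * b = b * a := by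
    have := H253.TC.not_comm_of_card (K := Spor.Th) card (by norm_num) (p := 7) (by norm_num) (by norm_num) (by norm_num)
    exact this
  obtain ⟨y, hy⟩ := H773.Pw.exists_order (K := Spor.Th) (l := 7) (by norm_num) (by rw [card]; norm_num)
  obtain ⟨P, hP, hyP, hc, he⟩ := H49.ThSeven.Dat.exists_elem H49.ThSeven.dat hy
  have h7 : ∀ a ∈ P, a ≠ 1 → orderOf a = 7 := fun a ha ha1 => by
    have := Fact.mk (show Nat.Prime 7 by norm_num)
    exact orderOf_eq_prime (he a ha) ha1
  refine H773.Pw.minDeg_of_fused hna (l := 7) (by norm_num) P ?_ ?_ ?_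
  · have := Fact.mk (show Nat.Prime 7 by norm_num)
    rw [IsPGroup.iff_card]
    exact ⟨2, by rw [hP]; norm_num⟩
  · intro a ha ha1 b hb hb1
    obtain ⟨g, hg⟩ := H49.ThSeven.dat.one a (h7 a ha ha1)
    obtain ⟨k, hk⟩ := H49.ThSeven.dat.one b (h7 b hb hb1)
    exact (isConj_iff.2 ⟨g, hg⟩).trans (isConj_iff.2 ⟨k, hk⟩).symm
  · rw [hP]

end ThP

theorem pw_th_seven {S : Type u} [Group S] (h : Spor.IsoTh S) : PW 7 70 S := by
  obtain ⟨e⟩ := h
  refine PW.congr ?_ e.symm
  have := H513.NilpTh.finite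
  have hs := H513.AbTh.simple
  have hna : ¬ ∀ a b : Spor.Th, a * b = b * a :=
    H253.TC.not_comm_of_card (K := Spor.Th) H513.NilpTh.card (by norm_num) (p := 7) (by norm_num) (by norm_num)
      (by norm_num)
  exact H773.Pw.pw_of_order hna (l := 7) (k := 23) (by norm_num) (by rw [H513.NilpTh.card]; norm_num) ThP.minDeg
    (fun y hy => (ThP.card_cent hy).le) (by norm_num) (by norm_num) (by norm_num)

end Cfsg.Agent.H468.PW
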