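import Cfsg.Agent.H773.Pw.Spor
import Cfsg.Agent.H773.Pw.Extra
import Cfsg.Agent.H839.Rad.HNFive
import Cfsg.Agent.H845.HNSeven

/-!
# `PW 7 70` for the Harada-Norton group (helper468)

An extraspecial subgroup `5 ^ (1 + 4)` gives degrees `≥ 25`; `|C(x)| = 420` for `x` of order 7.
-/

set_option autoImplicit false

namespace Cfsg.Agent.H468.PW

open Subgroup Cfsg Cfsg.Agent.H514.DP

universe u

namespace HNP

open Cfsg.Agent.H839.Rad.HN

theorem minDeg : MinDeg Spor.HN 25 := by
  have hs : IsSimpleGroup Spor.HN := Cfsg.Agent.S1701.result.1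
  have hfin := Cfsg.Agent.H463.Sp.HN.finite_HN
  have cA : Commute A W := e_wa1.symm
  have cB : Commute B W := e_wb1.symm
  have cC : Commute C₁ W := e_wa2.symm
  have cD : Commute D W := e_wb2.symm
  have h := H773.Pw.minDeg_of_extra (K := Spor.HN) (l := 5) (m := 2) (by norm_num) hW {1}
    (by intro j hj; rw [Finset.mem_singleton.1 hj]; norm_num)
    (by intro j hj; rw [Finset.mem_singleton.1 hj, pow_one])
    ![A, C₁] ![B, D] ?_ ?_ ?_ ?_ ?_ ?_
  · simpa using h
  · intro i
    fin_cases i
    · change A * B = W * (B * A)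
      rw [e_ab1]
      exact (cB.mul_left cA).eq
    · change C₁ * D = W * (D * C₁)
      rw [e_ab2]
      exact (cD.mul_left cC).eq
  · intro i
    fin_cases i
    exacts [cA, cC]
  · intro i
    fin_cases i
    exacts [cB, cD]
  · intro i j hij
    fin_cases i <;> fin_cases j
    · exact absurd rfl hij
    · exact e_a1b2
    · exact e_b1a2.symm
    · exact absurd rfl hij
  · intro i j
    fin_cases i <;> fin_cases j
    exacts [Commute.refl _, e_a1a2, e_a1a2.symm, Commute.refl _]
  · intro i j
    fin_cases i <;> fin_cases j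
    exacts [Commute.refl _, e_b1b2, e_b1b2.symm, Commute.refl _]

end HNP

theorem pw_hn_seven {S : Type u} [Group S] (h : Spor.IsoHN S) : PW 7 70 S := by
  obtain ⟨e⟩ := h
  refine PW.congr ?_ e.symm
  have hs : IsSimpleGroup Spor.HN := Cfsg.Agent.S1701.result.1
  have hfin := Cfsg.Agent.H463.Sp.HN.finite_HN
  have hcard : Nat.card Spor.HN = 273030912000000 := Cfsg.Agent.S1701.result.2
  have hna : ¬ ∀ a b : Spor.HN, a * b = b * a :=
    H253.TC.not_comm_of_card (K := Spor.HN) hcard (by norm_num) (p := 7) (by norm_num) (by norm_num)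
      (by norm_num)
  exact H773.Pw.pw_of_pe hna (m := 1) (D := 25) (k := 33) (c := 420) (IsPE.of_prime H845.HNSeven.order_X7).pe
    HNP.minDeg H845.HNSeven.card_cent.le (by norm_num) (by norm_num) (by norm_num)

end Cfsg.Agent.H468.PW
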