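import Cfsg.Agent.H829.Pw.ThSmall
import Cfsg.Agent.H829.Pw.Baby
import Cfsg.Agent.H436.MonLoc
import Cfsg.Agent.H241.NHMonF
import Cfsg.Agent.H199.AbMon

/-!
# The Monster: the centralizers of the elements of order 31 (S2454, helper468)

`card31` : `|C(x)|` divides `2 · 3 · 5 ^ 5 · 13 ^ 2 · 19 · 31`, `x` of order 31.
-/

set_option autoImplicit false
set_option maxRecDepth 100000

namespace Cfsg.Agent.H468.PWM

open Subgroup Cfsg Cfsg.Agent.H241.Mon Cfsg.Agent.H241.NH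
open Cfsg.Agent.H829.Pw (exists_of_dvd dvd_of_exists)

section Gen

/-- bounding the exponent of a prime -/
theorem strip {N p a b m : ℕ} (hp : p.Prime) (h : N ∣ p ^ a * m) (hn : ¬ p ^ (b + 1) ∣ N) : N ∣ p ^ b * m := by
  have h0 : N ≠ 0 := by
    rintro rfl
    exact hn (dvd_zero _)
  obtain ⟨c, N', hN', rfl⟩ := Nat.exists_eq_pow_mul_and_not_dvd h0 p hp.ne_one
  have hc : c ≤ b := by
    by_contra hcon
    exact hn ((pow_dvd_pow p (by omega : b + 1 ≤ c)).trans (dvd_mul_right _ _))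
  have h1 : N' ∣ p ^ a * m := (dvd_mul_left _ _).trans h
  have h2 : Nat.Coprime N' (p ^ a) := (Nat.Coprime.pow_left a ((Nat.Prime.coprime_iff_not_dvd hp).2 hN')).symm
  exact mul_dvd_mul (pow_dvd_pow p hc) (h2.dvd_of_dvd_mul_left h1)

variable {G : Type*} [Group G] [Finite G]

theorem flip {p r : ℕ} (hp : p.Prime) {x : G} (hx : orderOf x = r)
    (h : ∀ y : G, orderOf y = p → ¬ r ∣ Nat.card (centralizer ({y} : Set G))) :
    ¬ p ∣ Nat.card (centralizer ({x} : Set G)) := by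
  intro hd
  obtain ⟨y, hy, hyx⟩ := exists_of_dvd hp hd
  exact h y hy (dvd_of_exists hx hyx.symm)

/-- two subgroups with large `p`-parts meet after conjugation. -/
theorem meet {p a b n : ℕ} (hp : p.Prime) (hn : ¬ p ^ (n + 1) ∣ Nat.card G) {P Q : Subgroup G}
    (hP : p ^ a ∣ Nat.card P) (hQ : p ^ b ∣ Nat.card Q) (hab : n < a + b) :
    ∃ y ∈ P, orderOf y = p ∧ ∃ g : G, g⁻¹ * y * g ∈ Q := by
  classical
  have : Fact p.Prime := ⟨hp⟩
  obtain ⟨P', hP'⟩ := Sylow.exists_subgroup_card_pow_prime p hP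
  obtain ⟨Q', hQ'⟩ := Sylow.exists_subgroup_card_pow_prime p hQ
  set A : Subgroup G := P'.map P.subtype with hA
  set B : Subgroup G := Q'.map Q.subtype with hB
  have hAc : Nat.card A = p ^ a := by rw [hA, card_map_of_injective P.subtype_injective, hP']
  have hBc : Nat.card B = p ^ b := by rw [hB, card_map_of_injective Q.subtype_injective, hQ']
  obtain ⟨S, hS⟩ := (IsPGroup.of_card hAc).exists_le_sylow
  obtain ⟨T, hT⟩ := (IsPGroup.of_card hBc).exists_le_sylow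
  obtain ⟨g, hg⟩ := MulAction.exists_smul_eq G T S
  set B' : Subgroup G := B.map (MulAut.conj g).toMonoidHom with hB'
  have hB'c : Nat.card B' = p ^ b := by
    rw [hB', card_map_of_injective (MulAut.conj g).injective, hBc]
  have hB'S : B' ≤ (S : Subgroup G) := by
    rw [← hg]
    exact Subgroup.map_mono hT
  have hne : A ⊓ B' ≠ ⊥ := by
    intro hbot
    have hinj : Function.Injective (fun x : A × B' => (⟨(x.1 : G) * x.2, (S : Subgroup G).mul_mem (hS x.1.2)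
        (hB'S x.2.2)⟩ : (S : Subgroup G))) := by
      intro x y hxy
      have h1 : (x.1 : G) * x.2 = y.1 * y.2 := congrArg Subtype.val hxy
      have h2 : (y.1 : G)⁻¹ * x.1 = y.2 * (x.2 : G)⁻¹ := by
        calc (y.1 : G)⁻¹ * x.1 = (y.1 : G)⁻¹ * (x.1 * x.2) * (x.2 : G)⁻¹ := by group
          _ = y.2 * (x.2 : G)⁻¹ := by rw [h1]; group
      have h3 : (y.1 : G)⁻¹ * x.1 ∈ A ⊓ B' :=
        ⟨A.mul_mem (A.inv_mem y.1.2) x.1.2, by rw [h2]; exact B'.mul_mem y.2.2 (B'.inv_mem x.2.2)⟩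
      rw [hbot, mem_bot] at h3
      have h4 : (x.1 : G) = y.1 := (inv_mul_eq_one.1 h3).symm
      rw [h4] at h1
      exact Prod.ext (Subtype.ext h4) (Subtype.ext (mul_left_cancel h1))
    have h1 := Nat.card_le_card_of_injective _ hinj
    rw [Nat.card_prod, hAc, hB'c, ← pow_add] at h1
    obtain ⟨k, hk⟩ := IsPGroup.iff_card.1 S.isPGroup'
    rw [hk] at h1
    have h2 : a + b ≤ k := (Nat.pow_le_pow_iff_right hp.one_lt).1 h1
    have h3 : p ^ k ∣ Nat.card G := hk ▸ card_subgroup_dvd_card _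
    exact hn ((pow_dvd_pow p (by omega)).trans h3)
  have hpg : IsPGroup p ↥(A ⊓ B') := (IsPGroup.of_card hAc).to_inf_left
  have hnt : Nontrivial ↥(A ⊓ B') := (Subgroup.nontrivial_iff_ne_bot _).2 hne
  obtain ⟨k, hk⟩ := IsPGroup.iff_card.1 hpg
  have hk0 : k ≠ 0 := by
    rintro rfl
    have := Finite.one_lt_card (α := ↥(A ⊓ B'))
    rw [hk, pow_zero] at this
    exact lt_irrefl _ this
  obtain ⟨y, hy⟩ := exists_prime_orderOf_dvd_card' (G := ↥(A ⊓ B')) p (hk ▸ dvd_pow_self p hk0)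
  refine ⟨y, ?_, by rw [Subgroup.orderOf_coe, hy], g, ?_⟩
  · exact map_subtype_le _ y.2.1
  · obtain ⟨c, hc, hcy⟩ := y.2.2
    have h1 : g * c * g⁻¹ = (y : G) := hcy
    rw [← h1]
    have h2 : g⁻¹ * (g * c * g⁻¹) * g = c := by group
    rw [h2]
    exact map_subtype_le _ hc

end Gen

/-- the elements of order 31 of `Th` -/
theorem th31 : ∃ y : Spor.Th, orderOf y = 31 ∧ ∀ g : Spor.Th, g * y = y * g → g ∈ zpowers y := by
  obtain ⟨f, hf⟩ := H829.Pw.exists_th
  have := H829.Pw.th_finite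
  obtain ⟨y, hy⟩ := H773.Pw.exists_order (K := Spor.Th) (l := 31) (by norm_num)
    (by rw [H829.Pw.th_card]; norm_num)
  refine ⟨y, hy, fun g hg => ?_⟩
  have h1 : zpowers y = centralizer ({y} : Set Spor.Th) := by
    refine Subgroup.eq_of_le_of_card_ge ?_ ?_
    · rw [zpowers_le, mem_centralizer_singleton_iff]
    · rw [H829.Pw.th_cent31 hf hy, Nat.card_zpowers, hy]
  rw [h1, mem_centralizer_singleton_iff]
  exact hg

/-- `v` of order 3 with `C(v) ∩ C(y) = ⟨v⟩⟨y⟩`, `y` of order 31 -/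
theorem exists_three31 {y : Gam} (hy : orderOf y = 31) : ∃ v : Gam, orderOf v = 3 ∧ Self v y := by
  obtain ⟨v, hv, -, h⟩ := exists_th
  have hv' : orderOf (v : Gam) = 3 := by rw [Subgroup.orderOf_coe, hv]
  obtain ⟨e⟩ := h
  obtain ⟨y0, hy0, hC⟩ := self_congr e th31
  obtain ⟨y1, hy1, hs⟩ := exists_self Nat.prime_three (by norm_num) (by norm_num) hv' hy0 hC
  obtain ⟨g, hg⟩ := exists_self_conj (r := 31) (by norm_num) (by rw [card_G]; norm_num) hs hy1 hy
  exact ⟨_, by rw [order_conj, hv'], hg⟩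

/-- a group with a self-centralizing element of order 3 -/
theorem not_nine_of_self {K : Type*} [Group K] [Finite K] {t : K} (ht : orderOf t = 3)
    (htC : ∀ g : K, g * t = t * g → g ∈ zpowers t) : ¬ 9 ∣ Nat.card K := by
  intro h9
  have : Fact (Nat.Prime 3) := ⟨Nat.prime_three⟩
  have htp : IsPGroup 3 (zpowers t) := IsPGroup.of_card (n := 1) (by rw [Nat.card_zpowers, ht, pow_one])
  obtain ⟨S, hS⟩ := htp.exists_le_sylow
  have htS : t ∈ (S : Subgroup K) := hS (mem_zpowers _)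
  have hne : Nontrivial (S : Subgroup K) := ⟨⟨⟨t, htS⟩, 1, fun h => by
    have h5 : t = 1 := congrArg Subtype.val h
    rw [h5, orderOf_one] at ht
    norm_num at ht⟩⟩
  have h5 : Nontrivial (center (S : Subgroup K)) := S.2.center_nontrivial
  obtain ⟨⟨z, hz⟩, hz1⟩ := exists_ne (1 : center (S : Subgroup K))
  have hzS : ∀ s ∈ (S : Subgroup K), s * (z : K) = z * s := fun s hs =>
    congrArg Subtype.val (mem_center_iff.1 hz ⟨s, hs⟩)
  have hzK : (z : K) ≠ 1 := fun h => hz1 (Subtype.ext (Subtype.ext h))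
  have hzt : (z : K) ∈ zpowers t := htC _ (hzS t htS).symm
  have htz : t ∈ zpowers (z : K) := by
    have h6 : zpowers (z : K) = zpowers t := by
      refine Subgroup.eq_of_le_of_card_ge (by rw [zpowers_le]; exact hzt) ?_
      rw [Nat.card_zpowers, Nat.card_zpowers, ht]
      have h7 : orderOf (z : K) ∣ Nat.card (zpowers t) := Subgroup.orderOf_dvd_natCard _ hzt
      rw [Nat.card_zpowers, ht] at h7
      rcases (Nat.dvd_prime Nat.prime_three).1 h7 with h8 | h8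
      · exact absurd (orderOf_eq_one_iff.1 h8) hzK
      · rw [h8]
    rw [h6]
    exact mem_zpowers t
  have hle : (S : Subgroup K) ≤ zpowers t := by
    intro s hs
    apply htC
    obtain ⟨n, rfl⟩ := mem_zpowers_iff.1 htz
    exact ((show Commute s (z : K) from hzS s hs).zpow_right n).eq
  have h10 : 3 ^ 2 ∣ Nat.card (S : Subgroup K) := S.pow_dvd_card_of_pow_dvd_card (by norm_num; exact h9)
  have h11 := h10.trans (card_dvd_of_le hle)
  rw [Nat.card_zpowers, ht] at h11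
  norm_num at h11

theorem not_nine {x : Gam} (hx : orderOf x = 31) : ¬ 9 ∣ Nat.card (centralizer ({x} : Set Gam)) := by
  intro h9
  obtain ⟨v, hv, hs⟩ := exists_three31 hx
  obtain ⟨h1, h2⟩ := hs.quot Nat.prime_three (by norm_num) (by norm_num) hv hx
  apply not_nine_of_self h1 h2
  rw [card_XX hx] at h9
  exact (Nat.Coprime.dvd_of_dvd_mul_right (by norm_num) h9)

/-- the elements of order 5 commuting with a conjugate of `z` -/
theorem five_ev {y : Gam} (hy : orderOf y = 5) (he : H199.NSmMon.Ev y) :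
    ¬ 31 ∣ Nat.card (centralizer ({y} : Set Gam)) := by
  rcases H199.AbMon.five' hy he with h | h
  · rw [h]
    norm_num
  · exact h.1 31 (by unfold H199.NSmMon.Big; simp)

/-- `5 ^ 6` does not divide the order -/
theorem not_five {x : Gam} (hx : orderOf x = 31) : ¬ 5 ^ 6 ∣ Nat.card (centralizer ({x} : Set Gam)) := by
  intro h5
  have hz : 5 ^ 4 ∣ Nat.card (centralizer ({MonsterX.KDone.K.z} : Set Gam)) := by
    rw [card_cz]
    norm_num
  obtain ⟨y, hy, hyo, g, hg⟩ := meet (n := 9) Nat.prime_five (by rw [card_G]; norm_num) h5 hz (by norm_num)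
  refine five_ev hyo ⟨g, ?_⟩ (dvd_of_exists hx (mem_centralizer_singleton_iff.1 hy).symm)
  have h1 := mem_centralizer_singleton_iff.1 hg
  have h2 : g⁻¹ * y * g * MonsterX.KDone.K.z = MonsterX.KDone.K.z * (g⁻¹ * y * g) := h1
  calc g * MonsterX.KDone.K.z * g⁻¹ * y = g * (MonsterX.KDone.K.z * (g⁻¹ * y * g)) * g⁻¹ := by group
    _ = g * (g⁻¹ * y * g * MonsterX.KDone.K.z) * g⁻¹ := by rw [h2]
    _ = y * (g * MonsterX.KDone.K.z * g⁻¹) := by group

/-- `13 ^ 3` does not divide the order -/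
theorem not_thirteen {x : Gam} (hx : orderOf x = 31) : ¬ 13 ^ 3 ∣ Nat.card (centralizer ({x} : Set Gam)) := by
  intro h13
  obtain ⟨w, Q, hw, only, q2, qx, qz, zQ, nc⟩ := exists_thirteen
  have hw' : orderOf (w : Gam) = 13 := by rw [Subgroup.orderOf_coe, hw]
  have key : ¬ 31 ∣ Nat.card (centralizer ({(w : Gam)} : Set Gam)) :=
    not_dvd_cent (z := MonsterX.KDone.K.z) z_order (by rw [hw']; decide)
      (mem_centralizer_singleton_iff.1 w.2).symm only q2 qx qz zQ nc (by norm_num) (by rw [card_G]; norm_num)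
      (not_dvd_inf hw (by norm_num) (by norm_num) (by norm_num))
  obtain ⟨y, hy, hyo, g, hg⟩ := meet (n := 3) (a := 3) (b := 1) (Q := zpowers (w : Gam)) (by norm_num : Nat.Prime 13)
    (by rw [card_G]; norm_num) h13 (by rw [Nat.card_zpowers, hw', pow_one]) (by norm_num)
  apply key
  have hgo : orderOf (g⁻¹ * y * g) = 13 := by
    have := order_conj g⁻¹ y
    rw [inv_inv] at this
    rw [this, hyo]
  have hzz : zpowers (g⁻¹ * y * g) = zpowers (w : Gam) :=
    Subgroup.eq_of_le_of_card_ge (by rw [zpowers_le]; exact hg) (by rw [Nat.card_zpowers, Nat.card_zpowers, hgo, hw'])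
  have h1 : (w : Gam) ∈ zpowers (g⁻¹ * y * g) := by rw [hzz]; exact mem_zpowers _
  obtain ⟨k, hk⟩ := mem_zpowers_iff.1 h1
  have hyx : y * x = x * y := mem_centralizer_singleton_iff.1 hy
  have h2 : Commute (g⁻¹ * x * g) (g⁻¹ * y * g) := by
    show g⁻¹ * x * g * (g⁻¹ * y * g) = g⁻¹ * y * g * (g⁻¹ * x * g)
    calc g⁻¹ * x * g * (g⁻¹ * y * g) = g⁻¹ * (x * y) * g := by group
      _ = g⁻¹ * (y * x) * g := by rw [hyx]
      _ = _ := by group
  have h3 : (g⁻¹ * x * g) * (w : Gam) = w * (g⁻¹ * x * g) := by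
    rw [← hk]
    exact (h2.zpow_right k).eq
  have hxo : orderOf (g⁻¹ * x * g) = 31 := by
    have := order_conj g⁻¹ x
    rw [inv_inv] at this
    rw [this, hx]
  exact dvd_of_exists hxo h3

theorem no_31_23 (h3 : Three.{0}) {x y : Gam} (hx : orderOf x = 31) (hy : orderOf y = 23) : x * y ≠ y * x := by
  obtain ⟨v, hv, hvy⟩ := exists_three (r := 23) (by norm_num) (by norm_num) (by rw [card_G]; norm_num) fi23 hy
  obtain ⟨z, a, b, hz, hcz, hay, hby, hab⟩ := exists_pair23 hy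
  exact no_comm_of_comm h3 (r := 23) (by norm_num) (by norm_num) (by norm_num) hy hv hvy hay hby hab hz (q := 31)
    (by norm_num) (by norm_num) (by norm_num) (by rw [card_G]; norm_num) (by rw [hcz]; norm_num) x hx

/-- **The centralizers of the elements of order 31.** -/
theorem card31 (h3 : Three.{0}) (hK : Cfsg.Agent.H995.CopEngine.AllKnown.{0}) {x : Gam} (hx : orderOf x = 31) :
    Nat.card (centralizer ({x} : Set Gam)) ∣ 2 * 3 * 5 ^ 5 * 13 ^ 2 * 19 * 31 := by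
  set N := Nat.card (centralizer ({x} : Set Gam)) with hN
  have h0 : N ∣ 2 ^ 46 * (3 ^ 20 * 5 ^ 9 * 7 ^ 6 * 11 ^ 2 * 13 ^ 3 * 17 * 19 * 23 * 29 * 31 * 41 * 47 * 59 * 71) := by
    have := card_subgroup_dvd_card (centralizer ({x} : Set Gam))
    rw [card_G] at this
    exact this.trans (by norm_num)
  have n2 : ¬ 2 ^ (1 + 1) ∣ N := by
    have := not_four (r := 31) (by norm_num) (by norm_num) (by norm_num)
      (na_b (by norm_num) (by norm_num) (by norm_num) (by norm_num)) hx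
    simpa using this
  have h1 := strip (b := 1) Nat.prime_two h0 n2
  have n3 : ¬ 3 ^ (1 + 1) ∣ N := by simpa using not_nine hx
  have h2 : N ∣ 3 ^ 1 * (2 ^ 1 * 5 ^ 9 * 7 ^ 6 * 11 ^ 2 * 13 ^ 3 * 17 * 19 * 23 * 29 * 31 * 41 * 47 * 59 * 71) :=
    strip (a := 20) Nat.prime_three (h1.trans (by norm_num)) n3
  have h4 : N ∣ 5 ^ 5 * (3 ^ 1 * 2 ^ 1 * 7 ^ 6 * 11 ^ 2 * 13 ^ 3 * 17 * 19 * 23 * 29 * 31 * 41 * 47 * 59 * 71) :=
    strip (a := 9) Nat.prime_five (h2.trans (by norm_num)) (not_five hx)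
  have n7 : ¬ 7 ^ (0 + 1) ∣ N := by
    rw [zero_add, pow_one]
    exact flip (by norm_num) hx fun y hy => H199.AbMon.seven_not_dvd (by simp) hy
  have h5 : N ∣ 7 ^ 0 * (5 ^ 5 * 3 ^ 1 * 2 ^ 1 * 11 ^ 2 * 13 ^ 3 * 17 * 19 * 23 * 29 * 31 * 41 * 47 * 59 * 71) :=
    strip (a := 6) (by norm_num) (h4.trans (by norm_num)) n7
  have n11 : ¬ 11 ^ (0 + 1) ∣ N := by
    rw [zero_add, pow_one]
    exact flip (by norm_num) hx fun y hy => H199.AbMon.eleven_not_dvd (by simp) hy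
  have h6 : N ∣ 11 ^ 0 * (5 ^ 5 * 3 ^ 1 * 2 ^ 1 * 13 ^ 3 * 17 * 19 * 23 * 29 * 31 * 41 * 47 * 59 * 71) :=
    strip (a := 2) (by norm_num) (h5.trans (by norm_num)) n11
  have h7 : N ∣ 13 ^ 2 * (5 ^ 5 * 3 ^ 1 * 2 ^ 1 * 17 * 19 * 23 * 29 * 31 * 41 * 47 * 59 * 71) :=
    strip (a := 3) (by norm_num) (h6.trans (by norm_num)) (not_thirteen hx)
  have n17 : ¬ 17 ^ (0 + 1) ∣ N := by
    rw [zero_add, pow_one]
    refine flip (by norm_num) hx fun y hy h => ?_
    have := h.trans (card_seventeen h3 hy)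
    norm_num at this
  have h8 : N ∣ 17 ^ 0 * (13 ^ 2 * 5 ^ 5 * 3 ^ 1 * 2 ^ 1 * 19 * 23 * 29 * 31 * 41 * 47 * 59 * 71) :=
    strip (a := 1) (by norm_num) (h7.trans (by norm_num)) n17
  have n23 : ¬ 23 ^ (0 + 1) ∣ N := by
    rw [zero_add, pow_one]
    intro h
    obtain ⟨y, hy, hyx⟩ := exists_of_dvd (by norm_num) h
    exact no_31_23 h3 hx hy hyx.symm
  have h9 : N ∣ 23 ^ 0 * (13 ^ 2 * 5 ^ 5 * 3 ^ 1 * 2 ^ 1 * 19 * 29 * 31 * 41 * 47 * 59 * 71) :=
    strip (a := 1) (by norm_num) (h8.trans (by norm_num)) n23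
  have n29 : ¬ 29 ^ (0 + 1) ∣ N := by
    rw [zero_add, pow_one]
    exact flip (by norm_num) hx fun y hy => H436.MonLoc.not_dvd_31 (by simp) hy
  have h10 : N ∣ 29 ^ 0 * (13 ^ 2 * 5 ^ 5 * 3 ^ 1 * 2 ^ 1 * 19 * 31 * 41 * 47 * 59 * 71) :=
    strip (a := 1) (by norm_num) (h9.trans (by norm_num)) n29
  have n41 : ¬ 41 ^ (0 + 1) ∣ N := by
    rw [zero_add, pow_one]
    exact flip (by norm_num) hx fun y hy => H436.MonLoc.not_dvd_31 (by simp) hy
  have h11 : N ∣ 41 ^ 0 * (13 ^ 2 * 5 ^ 5 * 3 ^ 1 * 2 ^ 1 * 19 * 31 * 47 * 59 * 71) :=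
    strip (a := 1) (by norm_num) (h10.trans (by norm_num)) n41
  have n47 : ¬ 47 ^ (0 + 1) ∣ N := by
    rw [zero_add, pow_one]
    refine flip (by norm_num) hx fun y hy h => ?_
    have h12 : Nat.card (centralizer ({y} : Set Gam)) = 47 * 2 := H436.MonLoc.card47 hK hy
    rw [h12] at h
    norm_num at h
  have h12 : N ∣ 47 ^ 0 * (13 ^ 2 * 5 ^ 5 * 3 ^ 1 * 2 ^ 1 * 19 * 31 * 59 * 71) :=
    strip (a := 1) (by norm_num) (h11.trans (by norm_num)) n47
  have n59 : ¬ 59 ^ (0 + 1) ∣ N := by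
    rw [zero_add, pow_one]
    exact flip (by norm_num) hx fun y hy => H436.MonLoc.not_dvd_31 (by simp) hy
  have h13 : N ∣ 59 ^ 0 * (13 ^ 2 * 5 ^ 5 * 3 ^ 1 * 2 ^ 1 * 19 * 31 * 71) :=
    strip (a := 1) (by norm_num) (h12.trans (by norm_num)) n59
  have n71 : ¬ 71 ^ (0 + 1) ∣ N := by
    rw [zero_add, pow_one]
    exact flip (by norm_num) hx fun y hy => H436.MonLoc.not_dvd_31 (by simp) hy
  have h14 : N ∣ 71 ^ 0 * (13 ^ 2 * 5 ^ 5 * 3 ^ 1 * 2 ^ 1 * 19 * 31) :=
    strip (a := 1) (by norm_num) (h13.trans (by norm_num)) n71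
  exact h14.trans (by norm_num)

end Cfsg.Agent.H468.PWM
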