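import Cfsg.Agent.H468.PW.MEleven
import Cfsg.Agent.H468.PW.MThirtyOne
import Cfsg.Agent.H468.PW.HN
import Cfsg.Agent.H568.SC.Mon
import Cfsg.Agent.H847.MonDeg
import Cfsg.Agent.H845.HNNineteen
import Cfsg.Agent.H502.TO.Gen
import Cfsg.Agent.H547.SelfCent.Base

/-!
# S2454: the row `M` (helper468)

`D = 196883`. With a product of `m` `p`-elements of

* order 11 in `A₁₂ ≤ HN ≤ B`, lifted to `2.B` (`|C(y²)| = 11 |M12|`, `k = 5`): `p = 2, 3, 5, 7, 11, 19`;
* order 17 in `Fi23 ≤ B`, lifted to `2.B` (`|C(y²)| ∣ 168 · 17`, `k = 3`): `p = 13, 17, 23`;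
* order 59 (`|N : C| = 29`, `k = 3`): `p = 29, 59`;
* order 31 (`card31`, `k = 20`), 47 (`|C| = 94`, `k = 3`).
-/

set_option autoImplicit false
set_option maxRecDepth 100000

namespace Cfsg.Agent.H468.PWM

open Subgroup Cfsg Cfsg.Agent.H241.Mon Cfsg.Agent.H241.NH Cfsg.Agent.H514.DP Cfsg.Agent.H773.Pw
open Cfsg.Agent.H829.Pw (exists_of_dvd dvd_of_exists)

theorem m_na [IsSimpleGroup Gam] : ¬ ∀ a b : Gam, a * b = b * a :=
  H253.TC.not_comm_of_card card_G (by norm_num) (p := 71) (by norm_num) (by norm_num) (by norm_num)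

theorem m_deg : MinDeg Gam 196883 := fun k ρ hρ hk => by
  have := H847.MonDeg.bound_model ρ (H121.Chr.exists_ne_one ρ hρ hk)
  simpa using this

/-- lifting a product of `p`-elements from `B` to `M` -/
theorem exists_of_cov {p m r : ℕ} (hp : p.Prime) (hr : r.Prime) (hr2 : r ≠ 2) {y : Spor.BabyMonster}
    (hy : orderOf y = r) (h : PE p m y) :
    ∃ w x t : Gam, PE p m w ∧ orderOf x = r ∧ orderOf t = 2 ∧ x * t = t * x ∧
      Nat.card (centralizer ({w} : Set Gam)) ≤ Nat.card (centralizer ({x} : Set Gam)) := by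
  have : Fact r.Prime := ⟨hr⟩
  obtain ⟨t, ht, -, -, q, hq, hk⟩ := exists_cov
  obtain ⟨w, hw, hwy⟩ := pe_lift hp hq h
  have hw1 : q (w ^ r) = 1 := by rw [map_pow, hwy, ← hy, pow_orderOf_eq_one]
  have htt : t ^ 2 = 1 := by rw [← ht, pow_orderOf_eq_one]
  have hw2 : ((w : Gam) ^ 2) ^ r = 1 := by
    rw [← pow_mul, mul_comm, pow_mul]
    rcases hk _ hw1 with h1 | h1
    · have h2 : (w : Gam) ^ r = 1 := congrArg Subtype.val h1
      rw [h2, one_pow]
    · have h2 : (w : Gam) ^ r = t := h1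
      rw [h2, htt]
  have hw3 : (w : Gam) ^ 2 ≠ 1 := by
    intro h1
    have h2 : w ^ 2 = 1 := Subtype.ext h1
    have h3 : y ^ 2 = 1 := by rw [← hwy, ← map_pow, h2, map_one]
    have h4 := orderOf_dvd_of_pow_eq_one h3
    rw [hy] at h4
    exact hr2 ((Nat.prime_dvd_prime_iff_eq hr Nat.prime_two).1 h4)
  refine ⟨w, (w : Gam) ^ 2, t, pe_sub hw, orderOf_eq_prime hw2 hw3, ht, ?_, ?_⟩
  · have h1 : (w : Gam) * t = t * w := mem_centralizer_singleton_iff.1 w.2
    exact ((show Commute (w : Gam) t from h1).pow_left 2).eq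
  · refine Nat.le_of_dvd Nat.card_pos (Subgroup.card_dvd_of_le fun c hc => ?_)
    rw [mem_centralizer_singleton_iff] at hc ⊢
    exact ((show Commute c (w : Gam) from hc).pow_right 2).eq

/-- elements of order 11 -/
theorem pw_of_eleven [IsSimpleGroup Gam] {p m : ℕ} (hp : p.Prime) (hm : m ≤ 14) {y : Spor.BabyMonster}
    (hy : orderOf y = 11) (h : PE p m y) : PW p 70 Gam := by
  obtain ⟨w, x, t, hw, hx, ht, hxt, hc⟩ := exists_of_cov hp (r := 11) (by norm_num) (by norm_num) hy h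
  have h1 : Nat.card (centralizer ({x} : Set Gam)) = 11 * 95040 :=
    H199.AbMon.eleven hx (BpSpor.MBigEleven.comm_z hx ht hxt)
  exact pw_of_pe m_na hw m_deg (hc.trans h1.le) (k := 5) (by norm_num) (by norm_num) (by omega)

/-- elements of order 17 -/
theorem pw_of_seventeen (h3 : Three.{0}) [IsSimpleGroup Gam] {p m : ℕ} (hp : p.Prime) (hm : m ≤ 23)
    {y : Spor.BabyMonster} (hy : orderOf y = 17) (h : PE p m y) : PW p 70 Gam := by
  obtain ⟨w, x, t, hw, hx, ht, hxt, hc⟩ := exists_of_cov hp (r := 17) (by norm_num) (by norm_num) hy h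
  have h1 : Nat.card (centralizer ({x} : Set Gam)) ≤ 168 * 17 := Nat.le_of_dvd (by norm_num) (card_seventeen h3 hx)
  exact pw_of_pe m_na hw m_deg (hc.trans h1) (k := 3) (by norm_num) (by norm_num) (by omega)

/-- `p = 2, 3, 5, 7, 11` -/
theorem pw_small [IsSimpleGroup Gam] {p : ℕ} (hp : p.Prime) (h : p ∈ [2, 3, 5, 7, 11]) : PW p 70 Gam := by
  obtain ⟨f, hf⟩ := H829.Pw.exists_a12
  exact pw_of_eleven hp (m := 2) (by norm_num) (by rw [orderOf_injective f hf, orderOf_E]) ((pe_E h).map f)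

/-- `p = 19` -/
theorem hn_19 : PW 19 4 Spor.HN := by
  have : IsSimpleGroup Spor.HN := S1701.result.1
  have : Finite Spor.HN := H845.HNNineteen.finite_HN
  have hc : Nat.card Spor.HN = 273030912000000 := KFacts.HN.Classes.card_HN
  have hna : ¬ ∀ a b : Spor.HN, a * b = b * a :=
    H253.TC.not_comm_of_card hc (by norm_num) (p := 19) (by norm_num) (by norm_num) (by norm_num)
  obtain ⟨y, hy⟩ := exists_order (K := Spor.HN) (l := 19) (by norm_num) (by rw [hc]; norm_num)
  obtain ⟨x, hx, hcx⟩ := H845.HNNineteen.hn_nineteen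
  refine pw_of_pe hna (IsPE.of_prime hy).pe PW.HNP.minDeg (c := 19) ?_ (k := 4) (by norm_num) (by norm_num) (by norm_num)
  rw [H502.TO.card_cent_eq (by norm_num) (by rw [hc]; norm_num) hx hy, hcx]

theorem pw_19 [IsSimpleGroup Gam] : PW 19 70 Gam := by
  have : Finite Spor.HN := H845.HNNineteen.finite_HN
  have hc : Nat.card Spor.HN = 273030912000000 := KFacts.HN.Classes.card_HN
  obtain ⟨g, hg⟩ := H569.BFive.exists_hom
  obtain ⟨y, hy⟩ := exists_order (K := Spor.HN) (l := 11) (by norm_num) (by rw [hc]; norm_num)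
  exact pw_of_eleven (by norm_num) (m := 4) (by norm_num) (by rw [orderOf_injective g hg, hy]) ((hn_19 y).map g)

/-- `p = 13, 17, 23` -/
theorem pw_fi (h3 : Three.{0}) [IsSimpleGroup Gam] {p m : ℕ} (hp : p.Prime) (hm : m ≤ 23) (h : PW p m Spor.Fi23) :
    PW p 70 Gam := by
  obtain ⟨f, hf⟩ := H820.ElB.exists_hom
  obtain ⟨y, hy⟩ := exists_order (K := Spor.Fi23) (l := 17) (by norm_num) (by rw [H980.PwFi23.card_fi23]; norm_num)
  exact pw_of_seventeen h3 hp hm (by rw [orderOf_injective f hf, hy]) ((h y).map f)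

theorem fi23_13 : PW 13 10 Spor.Fi23 := by
  obtain ⟨y, hy⟩ := exists_order (K := Spor.Fi23) (l := 13) (by norm_num) (by rw [H980.PwFi23.card_fi23]; norm_num)
  exact pw_of_pe H980.PwFi23.na (IsPE.of_prime hy).pe H980.PwFi23.minDeg (c := 78) (H980.PwFi23.cent13 hy).le (k := 10)
    (by norm_num) (by norm_num) (by norm_num)

/-- the elements of order 59 -/
theorem sc59 (hK : Cfsg.Agent.H995.CopEngine.AllKnown.{0}) {x : Gam} (hx : orderOf x = 59) :
    Nat.card (centralizer ({x} : Set Gam)) = 59 := H568.SC.Mon.sc_model hK x hx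

theorem pe_59 (hK : Cfsg.Agent.H995.CopEngine.AllKnown.{0}) {x : Gam} (hx : orderOf x = 59) : PE 29 2 x := by
  obtain ⟨e, he, -, h2, h3, -⟩ := H547.SelfCent.arith (G := Gam) (r := 59) (by norm_num) hx
    (by rw [card_G]; norm_num)
  have hc := sc59 hK hx
  rw [card_G, hc] at h2
  have h29 : e = 29 := by
    have hmem : e ∈ (58 : ℕ).divisors := Nat.mem_divisors.2 ⟨he, by norm_num⟩
    have key : ∀ e ∈ (58 : ℕ).divisors,
        808017424794512875886459904961710757005754368000000000 / (59 * e) % 59 = 1 % 59 → e = 29 := by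
      decide +kernel
    exact key e hmem h2
  refine pe_two_of_dvd (by norm_num) (by rw [hx]; norm_num) ?_
  have h4 : centralizer (zpowers x : Set Gam) = centralizer ({x} : Set Gam) := by
    rw [zpowers_eq_closure, centralizer_closure]
  have h5 : centralizer (zpowers x : Set Gam) ≤ normalizer (zpowers x : Set Gam) := centralizer_le_normalizer _
  have h6 := Subgroup.index_mul_card ((centralizer (zpowers x : Set Gam)).subgroupOf (normalizer (zpowers x : Set Gam)))
  have h7 : Nat.card ((centralizer (zpowers x : Set Gam)).subgroupOf (normalizer (zpowers x : Set Gam))) = 59 := by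
    rw [Nat.card_congr (Subgroup.subgroupOfEquivOfLe h5).toEquiv, h4, hc]
  rw [h7, h3, hc, h29, mul_comm] at h6
  have h8 := Nat.eq_of_mul_eq_mul_left (by norm_num) h6
  have h9 : (centralizer (zpowers x : Set Gam)).relIndex (normalizer (zpowers x : Set Gam)) = 29 := h8
  rw [h9]

/-- **All primes but 41 and 71.** -/
theorem pw_m_model_of (h3 : Three.{0}) (hK : Cfsg.Agent.H995.CopEngine.AllKnown.{0}) [IsSimpleGroup Gam]
    (H : ∀ p, p = 41 ∨ p = 71 → PW p 70 Gam) {p : ℕ} (hp : p.Prime) (hd : p ∣ Nat.card Gam) : PW p 70 Gam := by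
  have h : p ∣ 2 ^ 46 * 3 ^ 20 * 5 ^ 9 * 7 ^ 6 * 11 ^ 2 * 13 ^ 3 * 17 * 19 * 23 * 29 * 31 * 41 * 47 * 59 * 71 := by
    rw [card_G] at hd
    exact hd.trans (by norm_num)
  simp only [hp.dvd_mul] at h
  rcases h with (((((((((((((h | h) | h) | h) | h) | h) | h) | h) | h) | h) | h) | h) | h) | h) | h
  · obtain rfl := (Nat.prime_dvd_prime_iff_eq hp Nat.prime_two).1 (hp.dvd_of_dvd_pow h)
    exact pw_small hp (by simp)
  · obtain rfl := (Nat.prime_dvd_prime_iff_eq hp Nat.prime_three).1 (hp.dvd_of_dvd_pow h)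
    exact pw_small hp (by simp)
  · obtain rfl := (Nat.prime_dvd_prime_iff_eq hp Nat.prime_five).1 (hp.dvd_of_dvd_pow h)
    exact pw_small hp (by simp)
  · obtain rfl := (Nat.prime_dvd_prime_iff_eq hp (by norm_num)).1 (hp.dvd_of_dvd_pow h)
    exact pw_small hp (by simp)
  · obtain rfl := (Nat.prime_dvd_prime_iff_eq hp (by norm_num)).1 (hp.dvd_of_dvd_pow h)
    exact pw_small hp (by simp)
  · obtain rfl := (Nat.prime_dvd_prime_iff_eq hp (by norm_num)).1 (hp.dvd_of_dvd_pow h)
    exact pw_fi h3 hp (by norm_num) fi23_13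
  · obtain rfl := (Nat.prime_dvd_prime_iff_eq hp (by norm_num)).1 h
    exact pw_fi h3 hp (by norm_num) H829.Pw.fi23_17
  · obtain rfl := (Nat.prime_dvd_prime_iff_eq hp (by norm_num)).1 h
    exact pw_19
  · obtain rfl := (Nat.prime_dvd_prime_iff_eq hp (by norm_num)).1 h
    exact pw_fi h3 hp (by norm_num) H829.Pw.fi23_23
  · obtain rfl := (Nat.prime_dvd_prime_iff_eq hp (by norm_num)).1 h
    obtain ⟨x, hx⟩ := exists_order (K := Gam) (l := 59) (by norm_num) (by rw [card_G]; norm_num)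
    exact pw_of_pe m_na (pe_59 hK hx) m_deg (sc59 hK hx).le (k := 3) (by norm_num) (by norm_num) (by norm_num)
  · obtain rfl := (Nat.prime_dvd_prime_iff_eq hp (by norm_num)).1 h
    exact pw_of_order m_na hp hd m_deg (c := 2 * 3 * 5 ^ 5 * 13 ^ 2 * 19 * 31)
      (fun y hy => Nat.le_of_dvd (by norm_num) (card31 h3 hK hy)) (k := 20) (by norm_num) (by norm_num) (by norm_num)
  · obtain rfl := (Nat.prime_dvd_prime_iff_eq hp (by norm_num)).1 h
    exact H 41 (Or.inl rfl)
  · obtain rfl := (Nat.prime_dvd_prime_iff_eq hp (by norm_num)).1 h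
    exact pw_of_order m_na hp hd m_deg (c := 47 * 2) (fun y hy => (H436.MonLoc.card47 hK hy).le) (k := 3)
      (by norm_num) (by norm_num) (by norm_num)
  · obtain rfl := (Nat.prime_dvd_prime_iff_eq hp (by norm_num)).1 h
    exact pw_of_order m_na hp hd m_deg (c := 59) (fun y hy => (sc59 hK hy).le) (k := 3)
      (by norm_num) (by norm_num) (by norm_num)
  · obtain rfl := (Nat.prime_dvd_prime_iff_eq hp (by norm_num)).1 h
    exact H 71 (Or.inr rfl)

/-- `p = 41, 71` from a bound of the centralizers in the model -/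
theorem pw_of_cent [IsSimpleGroup Gam] {p : ℕ} (hp : p = 41 ∨ p = 71)
    (hc : ∀ x : Gam, orderOf x = p → Nat.card (centralizer ({x} : Set Gam)) ≤ 19000000000) : PW p 70 Gam := by
  rcases hp with rfl | rfl
  · exact pw_of_order m_na (by norm_num) (by rw [card_G]; norm_num) m_deg hc (k := 70) (by norm_num) (by norm_num)
      (by norm_num)
  · exact pw_of_order m_na (by norm_num) (by rw [card_G]; norm_num) m_deg hc (k := 70) (by norm_num) (by norm_num)
      (by norm_num)

/-- **The Monster**, from the primes 41 and 71. -/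
theorem pw_m_of (h3 : Three.{0}) (hK : Cfsg.Agent.H995.CopEngine.AllKnown.{0})
    (hc : ∀ p, p = 41 ∨ p = 71 → ∀ x : Spor.Monster, orderOf x = p →
      Nat.card (centralizer ({x} : Set Spor.Monster)) ≤ 19000000000)
    {S : Type*} [Group S] [Finite S] [IsSimpleGroup S] (h : Spor.IsoM S) {p : ℕ} (hp : p.Prime)
    (hd : p ∣ Nat.card S) : PW p 70 S := by
  obtain ⟨e⟩ := h
  obtain ⟨f⟩ := Cfsg.Agent.MonsterP.Equiv.equiv
  have hs : IsSimpleGroup Gam := hG
  refine (pw_m_model_of h3 hK (fun q hq => pw_of_cent hq fun x hx => ?_) hp ?_).congr (e.trans f).symm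
  · have h1 := hc q hq (f.symm x) (by rw [MulEquiv.orderOf_eq, hx])
    refine le_trans (le_of_eq ?_) h1
    rw [H630.NH.centralizer_map_equiv f.symm x]
    exact (card_map_of_injective f.symm.injective).symm
  · rwa [← Nat.card_congr (e.trans f).toEquiv]

end Cfsg.Agent.H468.PWM
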