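import Cfsg.Agent.H773.Pw.Spor
import Cfsg.Agent.H839.ElevenMain
import Cfsg.Agent.H468.HCS.Tools
import Cfsg.Agent.NotCT.Orders

/-!
# `PW 7 70` for `Fi₂₃` (helper468)

An element of order 22 is the product of two elements of order 7; `|C(y)| ≤ 88` for `y` of order 11, degrees `≥ 12`.
-/

set_option autoImplicit false
set_option maxRecDepth 100000

namespace Cfsg.Agent.H468.PW

open Subgroup Cfsg Cfsg.Agent.H514.DP

universe u

namespace Fi23P

open Cfsg.Agent.Lib.PermNet Cfsg.Agent.Fischer.Fi23Hom Cfsg.Agent.LThreeFi23 Cfsg.Agent.H839.Fi23 Cfsg.Agent.H839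
open Cfsg.Spor (Fi23)

/-- `|C(y11)| ≤ 88` -/
theorem card_C11 : Nat.card ↥(centralizer (X11 : Set Fi23)) ≤ 88 := by
  by_cases h : ∃ w ∈ centralizer (X11 : Set Fi23), rho w 0 = 18119
  · obtain ⟨w, hw, hw0⟩ := h
    have h1 := index_two_pts (A := centralizer (X11 : Set Fi23))
      (fun w hw p hp => norm_fix (centralizer_le_normalizer _ hw) hp) hw hw0
    rw [Count.card_of_index_two inf_le_left h1, card_C0]
  · have h2 : centralizer (X11 : Set Fi23) ⊓ centralizer ({el .z} : Set Fi23) = centralizer (X11 : Set Fi23) := by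
      rw [inf_eq_left]
      intro w hw
      rw [mem_cz]
      rcases norm_fix (centralizer_le_normalizer _ hw) (Or.inl rfl) with h1 | h1
      · exact h1
      · exact absurd ⟨w, hw, h1⟩ h
    rw [← h2, card_C0]
    norm_num

def u7 : List Lt := [.a, .b, .c, .d, .h, .i]
def v7 : List Lt := [.g, .f, .e, .d, .h, .i]
def w22 : List Lt := [.a, .b, .c, .d, .h, .i, .c, .g, .f, .e, .d, .h, .i, .g, .f, .e, .d, .h, .i, .c]

theorem c_u7 : agree (wrep u7 7) [] [11589, 8004, 8003, 8000, 8002, 8005, 7999, 8007, 8006, 0] = true := by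
  decide +kernel

theorem c_v7 : agree (wrep v7 7) [] [11589, 8004, 8003, 8000, 8002, 8005, 7999, 8007, 8006, 0] = true := by
  decide +kernel

theorem c_w22 : agree (wrep w22 11) (wrep w22.reverse 11) [11589, 8004, 8003, 8000, 8002, 8005, 7999, 8007, 8006, 0] = true := by
  decide +kernel

theorem p_w22 : Nat.beq (ptw (w22 ++ w22) 11589) 11589 = false := by decide +kernel

theorem u7_pow : elw u7 ^ 7 = 1 := by
  rw [← elw_wrep, elw_eq_of_agree c_u7, elw_nil]

theorem v7_pow : elw v7 ^ 7 = 1 := by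
  rw [← elw_wrep, elw_eq_of_agree c_v7, elw_nil]

theorem w22_pow : elw w22 ^ 22 = 1 := by
  have h := elw_eq_of_agree c_w22
  rw [elw_wrep, elw_wrep, elw_reverse] at h
  calc elw w22 ^ 22 = elw w22 ^ 11 * elw w22 ^ 11 := by rw [← pow_add]
    _ = (elw w22)⁻¹ ^ 11 * elw w22 ^ 11 := by rw [h]
    _ = 1 := by rw [inv_pow, inv_mul_cancel]

theorem w22_ne : elw w22 ^ 2 ≠ 1 := by
  rw [pow_two, ← elw_append]
  exact ne_one_of_pt p_w22

theorem w22_eq : elw w22 = elw u7 * (el .c * elw v7 ^ 2 * (el .c)⁻¹) := by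
  rw [el_inv, pow_two, ← elw_append]
  simp only [w22, u7, v7, elw_cons, elw_nil, List.cons_append, List.nil_append, mul_one, mul_assoc]

theorem pe_w22 : PE 7 2 (elw w22) := by
  rw [w22_eq]
  have h1 : IsPE 7 (elw u7) := ⟨1, by rw [pow_one]; exact u7_pow⟩
  have h2 : IsPE 7 (elw v7) := ⟨1, by rw [pow_one]; exact v7_pow⟩
  exact h1.pe.mul ((h2.pow 2).conj _).pe

theorem cent_w22 : Nat.card ↥(centralizer ({elw w22} : Set Fi23)) ≤ 88 := by
  have h11 : Fact (Nat.Prime 11) := ⟨by norm_num⟩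
  have hx : orderOf (elw w22 ^ 2) = 11 := by
    refine orderOf_eq_prime ?_ w22_ne
    rw [← pow_mul]
    exact w22_pow
  have h1 : Nat.card ↥(centralizer ({elw w22 ^ 2} : Set Fi23)) ≤ 88 := by
    rw [H547.SelfCent.card_cent_eq (r := 11) (by norm_num) (by rw [card_G]; norm_num) hx
      (orderOf_eq_prime pow11 y11_ne)]
    refine le_trans (Nat.le_of_dvd Nat.card_pos (card_dvd_of_le ?_)) card_C11
    intro w hw
    exact mem_cent_zpowers.2 (mem_centralizer_singleton_iff.1 hw)
  refine le_trans (Nat.le_of_dvd Nat.card_pos (card_dvd_of_le ?_)) h1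
  intro w hw
  have h2 : Commute w (elw w22) := mem_centralizer_singleton_iff.1 hw
  exact mem_centralizer_singleton_iff.2 (h2.pow_right 2).eq

end Fi23P

theorem pw_fi23_seven {S : Type u} [Group S] (h : Spor.IsoFi23 S) : PW 7 70 S := by
  obtain ⟨e⟩ := h
  refine PW.congr ?_ e.symm
  have hs : IsSimpleGroup Spor.Fi23 := Cfsg.Agent.Fischer.Fi23Simple.isFi23.1
  have hcard := LThreeFi23.card_G
  have hna : ¬ ∀ a b : Spor.Fi23, a * b = b * a :=
    H253.TC.not_comm_of_card (K := Spor.Fi23) hcard (by norm_num) (p := 7) (by norm_num) (by norm_num)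
      (by norm_num)
  exact H773.Pw.pw_of_pe hna (m := 2) (D := 12) (k := 20) (c := 88) Fi23P.pe_w22
    (H773.Pw.minDeg_of_prime hcard (by norm_num) (l := 23) (by norm_num) (by norm_num) (by norm_num) (by norm_num)
      (by norm_num) (by norm_num) (by norm_num)) Fi23P.cent_w22 (by norm_num) (by norm_num) (by norm_num)

end Cfsg.Agent.H468.PW
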