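import Cfsg.Agent.H468.PW.Mon
import Cfsg.Agent.H346.DP.MonCent
import Cfsg.Agent.H241.NHThree
import Cfsg.Agent.S3331
import Cfsg.Agent.S0000

/-!
# S2454: the row `M`, without hypotheses (helper468; the primes 41, 71 by helper346)
-/

set_option autoImplicit false

namespace Cfsg.Agent.H468.PWM

open Cfsg Subgroup Cfsg.Agent.H241.Mon Cfsg.Agent.H514.DP

/-- **The Monster.** -/
theorem pw_m {S : Type*} [Group S] [Finite S] [IsSimpleGroup S] (h : Spor.IsoM S) {p : ℕ} (hp : p.Prime)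
    (hd : p ∣ Nat.card S) : PW p 70 S := by
  obtain ⟨e⟩ := h
  obtain ⟨f⟩ := Cfsg.Agent.MonsterP.Equiv.equiv
  have hs : IsSimpleGroup Gam := hG
  refine (pw_m_model_of (Cfsg.Agent.H241.NH.three_of fun X hX hC => Cfsg.Agent.S3331.result X hX hC)
    (fun _ _ _ _ => Cfsg.Agent.S0000.result)
    (fun q hq => H346.DP.MonCent.pw_41_71 (S := Gam) ⟨f.symm⟩ hq) hp ?_).congr (e.trans f).symm
  rwa [← Nat.card_congr (e.trans f).toEquiv]

end Cfsg.Agent.H468.PWM
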